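import Cfsg.Agent.KZ.Lie.McQ
import Cfsg.Agent.KZ.ClB.SP

/-!
# KZ, the membership test for Weyl groups of signed permutations (helper22)

For `T : S.Tor w₀ Q n` : `T.levC`, `T.regC`, `T.cardC`, `T.mc`, `T.admC`, `T.ordT_eq`.
-/

set_option autoImplicit false
set_option linter.unusedSectionVars false

namespace Cfsg.Agent.KZ.McX

open Cfsg.Agent.KZ.Lie Cfsg.Agent.KZ.Dat Matrix Equiv

variable {ι : Type} [Fintype ι] [DecidableEq ι] {π π' : Perm ι} {s s' : ι → ℤˣ} {Q : ℤ}

/-- fixed vectors modulo `3` -/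
def Fxd (π : Perm ι) (s : ι → ℤˣ) (v : ι → ZMod 3) : Prop := ∀ j, v (π j) = (s j : ℤ) * v j

/-- the points of the negative cycles -/
def Ng (π : Perm ι) (s : ι → ℤˣ) (i : ι) : Prop := ∀ v, Fxd π s v → v i = 0

theorem unit_mul_eq_zero (t : ℤˣ) (x : ZMod 3) : ((t : ℤ) : ZMod 3) * x = 0 ↔ x = 0 := by
  rcases Int.units_eq_one_or t with rfl | rfl <;> simp

theorem neg_ne : (((-1 : ℤˣ) : ℤ) : ZMod 3) ≠ 1 := by decide

theorem exists_ng (h : ∏ j, s j = -1) : ∃ i, Ng π s i := by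
  by_contra! h1
  simp only [Ng, not_forall] at h1
  have key : ∀ t : Finset ι, ∃ v, Fxd π s v ∧ ∀ i ∈ t, v i ≠ 0 := fun t => by
    induction t using Finset.induction_on with
    | empty => exact ⟨0, fun _ => by simp, by simp⟩
    | insert i t _ ih =>
      obtain ⟨v, h2, h3⟩ := ih
      obtain ⟨u, h4, h5⟩ := h1 i
      refine ⟨fun j => if v j = 0 then u j else v j, fun j => ?_, fun j hj => ?_⟩
      · simp only [h2 j, unit_mul_eq_zero, h4 j, mul_ite]
      · beta_reduce
        split_ifs with h6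
        · exact (Finset.mem_insert.1 hj).elim (fun e => e ▸ h5) fun e => absurd h6 (h3 j e)
        · exact h6
  obtain ⟨v, h2, h3⟩ := key Finset.univ
  have h4 := Equiv.prod_comp π v
  have : Fact (Nat.Prime 3) := ⟨Nat.prime_three⟩
  rw [Finset.prod_congr rfl fun j _ => h2 j, Finset.prod_mul_distrib, ← Int.cast_prod, ← Units.coe_prod, h,
    mul_left_eq_self₀] at h4
  exact h4.elim neg_ne (Finset.prod_ne_zero_iff.2 h3)

theorem ng_self (i : ι) : Ng π s (π i) ↔ Ng π s i :=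
  forall₂_congr fun v hv => by rw [hv, unit_mul_eq_zero]

theorem Ng.map (h : spm π' s' * spm π s = spm π s * spm π' s') {i : ι} (hi : Ng π s i) : Ng π s (π' i) := fun v hv => by
  rw [spm_mul, spm_mul, spm_inj] at h
  refine (unit_mul_eq_zero (s' i) _).1 (hi (fun j => (s' j : ℤ) * v (π' j)) fun j => ?_)
  have h1 : s' (π j) * s (π' j) = s j * s' j := by
    have h2 : s' (π j) * s j = s (π' j) * s' j := congrFun h.2 j
    calc _ = s' (π j) * s j * (s j * s (π' j)) := by rw [mul_assoc, ← mul_assoc (s j), Int.units_mul_self, one_mul]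
      _ = s j * s' j * (s (π' j) * s (π' j)) := by rw [h2]; ac_rfl
      _ = _ := by rw [Int.units_mul_self, mul_one]
  beta_reduce
  rw [← Perm.mul_apply, h.1, Perm.mul_apply, hv, ← mul_assoc, ← mul_assoc, ← Int.cast_mul, ← Int.cast_mul, ← Units.val_mul,
    ← Units.val_mul, h1]

theorem exists_spm_pow (π : Perm ι) (s : ι → ℤˣ) : ∃ N ≠ 0, spm π s ^ N = 1 := by
  have h1 : ∀ n : ℕ, ∃ t, spm π s ^ n = spm (π ^ n) t := fun n => by
    induction n with
    | zero => exact ⟨1, spm_one.symm⟩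
    | succ n ih => exact ih.elim fun t ht => ⟨_, by rw [pow_succ, ht, spm_mul, pow_succ]⟩
  obtain ⟨t, ht⟩ := h1 (orderOf π)
  refine ⟨orderOf π * 2, mul_ne_zero (orderOf_pos π).ne' two_ne_zero, ?_⟩
  rw [pow_mul, ht, pow_orderOf_eq_one, pow_two, spm_mul, one_mul, ← spm_one]
  exact congrArg _ (funext fun j => Int.units_mul_self _)

theorem block_eq (P : ι → Prop) [DecidablePred P] (h : ∀ i, P (π i) ↔ P i) :
    toSquareBlockProp (Q • spm π s - 1) P = Q • spm (π.subtypePerm h) (fun j => s j) - 1 := by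
  ext i j
  simp only [toSquareBlockProp_def, of_apply, Matrix.sub_apply, Matrix.smul_apply, spm_apply, one_apply, Subtype.ext_iff,
    Perm.subtypePerm_apply]

theorem not_dvd_det (hQ : 3 ∣ Q - 1) (h : ∀ v, Fxd π s v → v = 0) : ¬ 3 ∣ (Q • spm π s - 1).det := fun e => by
  have : Fact (Nat.Prime 3) := ⟨Nat.prime_three⟩
  have h1 := (Int.castRingHom (ZMod 3)).map_det (Q • spm π s - 1)
  rw [show Int.castRingHom (ZMod 3) _ = 0 from (ZMod.intCast_zmod_eq_zero_iff_dvd _ 3).2 e] at h1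
  obtain ⟨v, h2, h3⟩ := exists_mulVec_eq_zero_iff.2 h1.symm
  have h4 : (Q : ZMod 3) = 1 := by
    have := (ZMod.intCast_zmod_eq_zero_iff_dvd _ 3).2 hQ
    rwa [Int.cast_sub, Int.cast_one, sub_eq_zero] at this
  refine h2 (h v fun j => ?_)
  have h5 := congrFun h3 (π j)
  rw [map_sub, map_one, map_zsmul, sub_mulVec, smul_mulVec, one_mulVec, Pi.sub_apply, Pi.smul_apply, zsmul_eq_mul, h4,
    one_mul, Pi.zero_apply, sub_eq_zero] at h5
  rw [← h5]
  simp [mulVec, dotProduct, spm_apply, apply_ite (Int.cast : ℤ → ZMod 3)]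

open Classical in
/-- the `3`-part of the order of a torus -/
theorem pow_dvd_ng (hQ : 3 ∣ Q - 1) {j : ℕ} (h : (3 : ℤ) ^ j ∣ (Q • spm π s - 1).det) :
    (3 : ℤ) ^ j ∣ (Q - 1) ^ Fintype.card {i // ¬ Ng π s i} := by
  rw [twoBlockTriangular_det _ (Ng π s) fun i hi j hj => ?_, block_eq _ ng_self,
    block_eq (fun i => ¬ Ng π s i) fun i => not_congr (ng_self i)] at h
  · obtain ⟨N, h1, h2⟩ := exists_spm_pow (π.subtypePerm (p := fun i => ¬ Ng π s i) fun i => not_congr (ng_self i))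
      fun j => s j
    refine pow_dvd_of_dvd_det hQ h1 (by rw [smul_pow, h2]) (IsCoprime.dvd_of_dvd_mul_left
      (((Int.prime_three.coprime_iff_not_dvd).2 (not_dvd_det hQ fun v hv => funext fun i => ?_)).pow_left) h)
    have h3 := i.2 (fun j => if h : Ng π s j then v ⟨j, h⟩ else 0) fun j => by
      beta_reduce
      by_cases h4 : Ng π s j
      · rw [dif_pos h4, dif_pos ((ng_self j).2 h4)]
        exact hv ⟨j, h4⟩
      · rw [dif_neg h4, dif_neg fun e => h4 ((ng_self j).1 e), mul_zero]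
    beta_reduce at h3
    rwa [dif_pos i.2] at h3
  · rw [Matrix.sub_apply, Matrix.smul_apply, spm_apply, if_neg fun e : i = π j => hi (e ▸ (ng_self j).2 hj),
      one_apply_ne fun e : i = j => hi (e ▸ hj), smul_zero, sub_zero]

open Classical in
/-- the order of a group of signed permutations which stabilises a subset -/
theorem fact_card_le {H : Type} [Group H] [Finite H] (φ : H →* Perm ι) (h2 : ∀ x, φ x = 1 → x * x = 1) (P : ι → Prop)
    (h : ∀ x i, P i → P (φ x i)) : (Nat.card H).factorization 3 ≤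
      (Fintype.card {i // P i}).factorial.factorization 3 + (Fintype.card {i // ¬ P i}).factorial.factorization 3 := by
  have : Fact (Nat.Prime 3) := ⟨Nat.prime_three⟩
  let K : Subgroup (Perm ι) :=
    { carrier := {g | (fun i => decide (P i)) ∘ g = fun i => decide (P i)}
      one_mem' := rfl
      mul_mem' := fun {a b} ha hb => funext fun i => (congrFun ha (b i)).trans (congrFun hb i)
      inv_mem' := fun {a} ha => funext fun i => by simpa using (congrFun ha (a⁻¹ i)).symm }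
  have h3 : Nat.card K = (Fintype.card {i // P i}).factorial * (Fintype.card {i // ¬ P i}).factorial := by
    have h3 := DomMulAct.stabilizer_card fun i => decide (P i)
    rw [← Nat.card_eq_fintype_card] at h3
    refine h3.trans ?_
    simp
  have h4 : φ.range ≤ K := by
    rintro _ ⟨x, rfl⟩
    refine funext fun i => decide_eq_decide.2 ⟨fun e => ?_, h x i⟩
    simpa using h x⁻¹ _ e
  have h5 : ¬ 3 ∣ Nat.card φ.ker := fun e => by
    obtain ⟨x, hx⟩ := exists_prime_orderOf_dvd_card' 3 e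
    have := orderOf_dvd_of_pow_eq_one (n := 2) (x := x) (Subtype.ext ((pow_two _).trans (h2 x x.2)))
    rw [hx] at this
    omega
  rw [← φ.ker.card_mul_index, Subgroup.index_ker, Nat.factorization_mul Nat.card_pos.ne' Nat.card_pos.ne', Finsupp.add_apply,
    Nat.factorization_eq_zero_of_not_dvd h5, zero_add, ← Finsupp.add_apply,
    ← Nat.factorization_mul (Nat.factorial_ne_zero _) (Nat.factorial_ne_zero _), ← h3]
  exact (Nat.factorization_le_iff_dvd Nat.card_pos.ne' Nat.card_pos.ne').2 (Subgroup.card_dvd_of_le h4) 3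

theorem fact_num {a b c : ℕ} (ha : 1 ≤ a) :
    b * a + ((c + 1).factorial.factorization 3 + b.factorial.factorization 3) ≤
      (c + b) * a + (c + b).factorial.factorization 3 := by
  have h1 := (Nat.factorization_le_iff_dvd (mul_ne_zero c.factorial_ne_zero b.factorial_ne_zero)
    (Nat.factorial_ne_zero _)).2 (Nat.factorial_mul_factorial_dvd_factorial_add c b) 3
  have h2 := Nat.factorization_lt 3 c.succ_ne_zero
  rw [Nat.factorization_mul c.factorial_ne_zero b.factorial_ne_zero, Finsupp.add_apply] at h1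
  rw [Nat.factorial_succ, Nat.factorization_mul c.succ_ne_zero c.factorial_ne_zero, Finsupp.add_apply]
  nlinarith

end Cfsg.Agent.KZ.McX

namespace Cfsg.Agent.KZ.ClB.SP

open Cfsg Cfsg.Agent.DL Cfsg.Agent.DL.PP Cfsg.Agent.KZ.Lie Cfsg.Agent.KZ.Dat Cfsg.Agent.KZ.Cl Cfsg.Agent.KZ.McX Matrix Equiv

variable {p : ℕ} [Fact p.Prime] {k : Type} [Field k] [CharP k p] {Y : Type} [Group Y] {N : Type} [Fintype N]
  [DecidableEq N] {ρ : Y →* GL N k} {F : MulAut Y} {G : Subgroup Y} [IsAlgClosed k] {D : Datum p ρ F G}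
  {m : ℕ} {ev : Prop} {S : SP D m ev} {w₀ : D.W} {Q : ℤ} {n : ℕ}

theorem det_sub_one {X : Matrix D.R D.R ℤ} {Z : Matrix (Fin m) (Fin m) ℤ} (h : S.P * X = Z * S.P) :
    (X - 1).det = (Z - 1).det := by
  rw [← det_conj_of_mul_eq_one S.PP' S.P'P, Matrix.mul_sub, h, Matrix.mul_one, Matrix.sub_mul, Matrix.mul_assoc, S.PP',
    Matrix.mul_one]

/-- the entries of a reflection -/
theorem rf_apply {a : D.I → ℤ} (ha : D.Rt a) (i j : Fin m) : (S.P *ᵥ D.cor a) i * (D.wt a ⬝ᵥ S.P' *ᵥ Pi.single j 1) =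
    (1 - spm (S.π (D.rf a)) (S.s (D.rf a))) i j := by
  have h := congrArg (· * S.P') (S.eq (D.rf a))
  simp only [Matrix.mul_assoc, S.PP', Matrix.mul_one] at h
  rw [← h, D.Wm_rf ha, Matrix.sub_mul, Matrix.one_mul, Matrix.mul_sub, S.PP', sub_sub_cancel, vecMulVec_mul, mul_vecMulVec,
    vecMulVec_apply, dotProduct_mulVec, dotProduct_single, mul_one]

theorem cor_ne {a : D.I → ℤ} (ha : D.Rt a) : ∃ i, (S.P *ᵥ D.cor a) i ≠ 0 := by
  by_contra! h
  have h1 := wt_dot_cor D a ha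
  rw [show D.cor a = 0 from S.P_inj (by rw [mulVec_zero]; exact funext h), dotProduct_zero, cp, Nodes.Coroot.cpr_self _ _ ha] at h1
  omega

namespace Tor

variable (T : S.Tor w₀ Q n)
include T

theorem P_mul (w : D.W) : S.P * (D.Wm w * D.Mx) =
    Q • spm (S.π (w * w₀⁻¹)) (fun j => S.s (w * w₀⁻¹) j * dd m n j) * S.P := by
  rw [show D.Wm w * D.Mx = D.Wm (w * w₀⁻¹) * (D.Wm w₀ * D.Mx) by rw [← mul_assoc, ← D.Wm_mul, inv_mul_cancel_right],
    ← Matrix.mul_assoc, S.eq, Matrix.mul_assoc, T.eq, ← Matrix.mul_assoc, Matrix.mul_smul, spm_mul, mul_one]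
  rfl

theorem toSc (h : m = n) : Sc D w₀ Q := ⟨S.cancel_left (by
  subst h
  rw [T.eq, dd_self, Matrix.smul_mul, Matrix.one_mul, Matrix.mul_smul, Matrix.mul_one]), T.three⟩

theorem eq_one {v : D.W} (h : ∀ j : Fin m, (j : ℕ) < n → S.π v j = j ∧ S.s v j = 1) : v = 1 := by
  have h5 : ∀ j, S.π v j = j := fun j => by
    by_cases hj : (j : ℕ) < n
    · exact (h j hj).1
    · have h6 : ¬ (S.π v j : ℕ) < n := fun e => hj (by rwa [(S.π v).injective (h _ e).1] at e)
      exact Fin.ext (by have := T.rank; have := j.2; have := (S.π v j).2; omega)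
  refine S.ext (fun j => by rw [h5, map_one]; rfl) fun j => ?_
  rw [S.s_one]
  by_cases hj : (j : ℕ) < n
  · exact (h j hj).2
  · rcases T.rank with h6 | ⟨h6, h7⟩
    · exact absurd (h6 ▸ j.2) hj
    · rw [← S.even h7 v, Finset.prod_eq_single j (fun b _ hb => (h b (by_contra fun h8 => hb (Fin.ext ?_))).2) (by simp)]
      have := j.2
      have := b.2
      omega

theorem levC : LevC D w₀ := fun a ha => by
  have h1 : ∃ j : Fin m, (j : ℕ) < n ∧ D.wt a ⬝ᵥ S.P' *ᵥ Pi.single j 1 ≠ 0 := by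
    by_contra! h
    have h2 : D.rf a = 1 := T.eq_one fun j hj => by
      have h3 := rf_apply (S := S) ha (S.π (D.rf a) j) j
      rw [h j hj, mul_zero, Matrix.sub_apply, spm_apply, if_pos rfl, one_apply] at h3
      split_ifs at h3 with h4
      · exact ⟨h4, Units.ext (sub_eq_zero.1 h3.symm).symm⟩
      · simp at h3
    have h3 := D.act_rf_self ha
    rw [h2, CF.act_one] at h3
    exact ha.ne_zero (funext fun i => by have := congrFun h3 i; simp only [Pi.neg_apply] at this; simp; omega)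
  obtain ⟨j, hj, h2⟩ := h1
  refine ⟨S.P' *ᵥ Pi.single j 1, fun i => ?_, fun b hb h3 => ?_, h2⟩
  · rw [show (D.Wm w₀ * D.Mx - 1) *ᵥ S.P' *ᵥ Pi.single j 1 = (Q - 1) • S.P' *ᵥ Pi.single j 1 from S.P_inj (by
      rw [mulVec_mulVec, Matrix.mul_sub, T.eq, sub_mulVec, ← mulVec_mulVec, Matrix.mul_one, mulVec_smul, S.P_P',
        smul_mulVec, spm_mulVec_single, dd, if_pos hj, Units.val_one, one_mul, Perm.one_apply, sub_smul, one_smul])]
    exact T.three.mul_right _
  · obtain ⟨i, hi⟩ := cor_ne (S := S) hb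
    have h4 := rf_apply (S := S) hb i j
    have h5 := h4 ▸ h3.mul_left ((S.P *ᵥ D.cor b) i)
    refine (mul_eq_zero.1 (h4.trans ?_)).resolve_left hi
    rw [Matrix.sub_apply, spm_apply, one_apply] at h5 ⊢
    rcases Int.units_eq_one_or (S.s (D.rf b) j) with h6 | h6 <;> rw [h6] at h5 ⊢ <;> split_ifs at h5 ⊢ <;> simp_all

theorem regC : RegC D w₀ := T.levC.regC

theorem ordT_eq : ordT D w₀ = (Q - 1).natAbs ^ n * (Q + 1).natAbs ^ (m - n) := by
  rw [ordT, det_sub_one T.eq, spm_diag, ← diagonal_smul, ← diagonal_one, diagonal_sub, det_diagonal]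
  rcases T.rank with rfl | ⟨rfl, -⟩
  · simp [dd, Int.natAbs_pow]
  · rw [Fin.prod_univ_castSucc]
    simp [dd, ← Int.natAbs_neg (Q + 1), sub_eq_add_neg, add_comm, Int.natAbs_mul, Int.natAbs_pow]

theorem factorial_dvd : n.factorial ∣ Nat.card (CW D w₀) := by
  have h1 : ∀ g, S.pw.comp (ex T.le) g ∈ CW D w₀ := fun g => T.mem_CW.2 fun j hj => by
    rwa [MonoidHom.comp_apply, S.π_pw, ex_lt_iff]
  have h := Subgroup.card_dvd_of_injective ((S.pw.comp (ex T.le)).codRestrict (CW D w₀) h1) fun g g' e =>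
    Equiv.ext fun a => Fin.castLE_injective T.le (by
      have h2 : S.pw (ex T.le g) = S.pw (ex T.le g') := congrArg Subtype.val e
      rw [← ex_lt, ← ex_lt, ← S.π_pw (ex T.le g), h2, S.π_pw])
  rwa [Nat.card_perm, Nat.card_fin] at h

theorem cardC (hp : p ≠ 3) : CardC D w₀ := by
  classical
  rcases T.rank with h | ⟨h, he⟩
  · exact (T.toSc h).cardC hp
  refine card_of_le hp fun w => ?_
  rcases Nat.eq_zero_or_pos n with rfl | hn
  · have h1 : ∀ v : D.W, v = 1 := fun v => T.eq_one fun j hj => absurd hj (Nat.not_lt_zero _)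
    rw [(h1 w).trans (h1 w₀).symm]
  have h1 := T.P_mul w
  obtain ⟨π, hπ⟩ : ∃ π, π = S.π (w * w₀⁻¹) := ⟨_, rfl⟩
  obtain ⟨s, hs⟩ : ∃ s, s = fun j => S.s (w * w₀⁻¹) j * dd m n j := ⟨_, rfl⟩
  rw [← hπ, ← hs] at h1
  obtain ⟨i, hi⟩ : ∃ i, Ng π s i := exists_ng (by
    subst h
    rw [hs, Finset.prod_mul_distrib, S.even he, one_mul, Fin.prod_univ_castSucc]
    simp [dd])
  have h2 := fact_card_le (S.π.comp (CW D w).subtype) (fun x hx => Subtype.ext (S.ext (fun j => ?_) fun j => ?_)) (Ng π s)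
    fun x i => Ng.map (s' := S.s x) (smul_right_injective _ T.ne (S.cancel_right ?_))
  · have h3 := pow_dvd_ng T.three (j := (ordT D w).factorization 3) (π := π) (s := s) (by
      rw [← det_sub_one h1]
      exact_mod_cast Int.natCast_dvd.2 (Nat.ordProj_dvd (ordT D w) 3))
    have h0 : (Q - 1).natAbs ≠ 0 := fun e => ordT_ne w₀ (by rw [T.ordT_eq, e, zero_pow hn.ne', zero_mul])
    have h4 := (Nat.prime_three.pow_dvd_iff_le_factorization (pow_ne_zero _ h0)).1
      (Int.natAbs_pow _ _ ▸ Int.natCast_dvd.1 (by exact_mod_cast h3))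
    have h5 := (Nat.factorization_le_iff_dvd (pow_ne_zero _ h0) (ordT_ne w₀)).2 (T.ordT_eq ▸ dvd_mul_right _ _) 3
    have h6 := (Nat.factorization_le_iff_dvd n.factorial_ne_zero Nat.card_pos.ne').2 T.factorial_dvd 3
    have h7 := Fintype.card_subtype_compl (Ng π s)
    have h8 := Fintype.card_subtype_le (Ng π s)
    obtain ⟨c, hc⟩ := Nat.exists_eq_succ_of_ne_zero (Fintype.card_pos_iff.2 ⟨(⟨i, hi⟩ : {i // Ng π s i})⟩).ne'
    have h9 := fact_num (b := Fintype.card {i // ¬ Ng π s i}) (c := c)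
      ((Nat.prime_three.dvd_iff_one_le_factorization h0).1 (Int.natCast_dvd.1 T.three))
    rw [Fintype.card_fin] at h7 h8
    rw [show c + Fintype.card {i // ¬ Ng π s i} = n by omega] at h9
    rw [Nat.factorization_pow, Finsupp.smul_apply, smul_eq_mul] at h4 h5
    rw [hc] at h2
    rw [Nat.factorization_mul (ordT_ne w) Nat.card_pos.ne', Nat.factorization_mul (ordT_ne w₀) Nat.card_pos.ne',
      Finsupp.add_apply, Finsupp.add_apply]
    exact (add_le_add h4 h2).trans (h9.trans (add_le_add h5 h6))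
  · rw [Subgroup.coe_mul, S.π_mul, show S.π x = 1 from hx, Subgroup.coe_one, map_one]
    rfl
  · rw [Subgroup.coe_mul, S.s_mul, show S.π x = 1 from hx, Subgroup.coe_one, S.s_one]
    exact Int.units_mul_self _
  · have h3 := congrArg (S.P * ·) (mem_CW_iff.1 x.2)
    simp only [← Matrix.mul_assoc S.P (D.Wm x), ← Matrix.mul_assoc S.P (D.Wm w * D.Mx), S.eq, h1] at h3
    rw [Matrix.mul_assoc, h1, Matrix.mul_assoc _ S.P, S.eq, ← Matrix.mul_assoc, ← Matrix.mul_assoc, Matrix.mul_smul,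
      Matrix.smul_mul] at h3
    simp only [Matrix.smul_mul] at h3 ⊢
    exact h3

/-- **The membership test.** -/
theorem mc (f : Fr D) [Fintype ↥(GF F G)] (hp : p ≠ 3) : Mc f w₀ := mc_of_lev2 f hp T.levC (T.cardC hp)

theorem admC {Adm : Matrix D.R D.R ℤ → Prop} (h : ∀ A, Adm A → ∃ (c : ℤ) (π : Perm (Fin m)) (t : Fin m → ℤˣ),
    S.P * A = c • spm π t * S.P) : AdmC D Adm w₀ := fun _ A _ hA => by
  obtain ⟨c, π, t, e⟩ := h A hA
  have h1 : S.P * (D.Wm (S.pw π⁻¹) * A) = c • spm 1 t * S.P := by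
    rw [← Matrix.mul_assoc, S.eq, Matrix.mul_assoc, e, ← Matrix.mul_assoc, Matrix.mul_smul, spm_mul, S.π_pw, inv_mul_cancel]
    simp only [S.s_pw, one_mul]
  refine ⟨S.pw π⁻¹, S.cancel_left ?_⟩
  rw [← Matrix.mul_assoc, h1, Matrix.mul_assoc, T.eq, ← Matrix.mul_assoc S.P, T.eq, Matrix.mul_assoc _ S.P, h1,
    ← Matrix.mul_assoc, ← Matrix.mul_assoc, smul_mul_smul_comm, smul_mul_smul_comm, spm_mul, spm_mul, mul_comm c]
  simp only [Perm.one_apply, mul_comm]

end Tor

end Cfsg.Agent.KZ.ClB.SP
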