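import Cfsg.Agent.KZ.Lie.McQ
import Cfsg.Agent.KZ.DatX.Main
import Cfsg.Agent.KZ.DatX.Weyl
import Cfsg.Agent.S1063
import Cfsg.Agent.S1066
import Cfsg.Agent.S1067

/-!
# KZ, the membership test for `E₆ ^ (-ε)` and `³D₄` (helper22)

`Gt D w₀ Q P` : `w₀ F` acts as `Q • P`; `Pk D Adm w₀ Q P` : moreover `LevC`, `CardC`, `AdmC`; `HasP` : the analogue of `Has`;
`hasP_E6`, `hasP_2E6`, `hasP_3D4`, `rowP_E6`, `rowP_2E6`, `rowP_3D4`.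
-/

set_option autoImplicit false
set_option linter.unusedSectionVars false

namespace Cfsg.Agent.KZ.McX

open Cfsg Cfsg.Lie Cfsg.Agent.DL Cfsg.Agent.DL.PP Cfsg.Agent.KZ.Lie Cfsg.Agent.KZ.DatX Matrix
open Cfsg.Agent.ChevalleyStructure Cfsg.Agent.ChevalleyStructure.CoxeterGeomTypes Cfsg.Agent.Nodes Cfsg.Agent.Nodes.RGDChev

/-- two commuting elements of order three -/
theorem nine_dvd_card {H : Type*} [Group H] [Finite H] {x y : H} (hx : x ^ 3 = 1) (hy : y ^ 3 = 1) (hc : y * x = x * y)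
    (h0 : x ≠ 1) (h1 : y ≠ 1) (h2 : y ≠ x) (h3 : y ≠ x * x) : 3 ^ 2 ∣ Nat.card H := by
  have : Fact (Nat.Prime 3) := ⟨Nat.prime_three⟩
  let C := Subgroup.centralizer {x}
  let x' : C := ⟨x, Subgroup.mem_centralizer_singleton_iff.2 rfl⟩
  let y' : C := ⟨y, Subgroup.mem_centralizer_singleton_iff.2 hc⟩
  have h4 : orderOf x' = 3 := orderOf_eq_prime (Subtype.ext hx) fun e => h0 (congrArg Subtype.val e)
  have : (Subgroup.zpowers x').Normal := ⟨fun n hn g => by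
    obtain ⟨i, rfl⟩ := hn
    have h5 : Commute g x' := Subtype.ext (Subgroup.mem_centralizer_singleton_iff.1 g.2)
    beta_reduce
    rw [(h5.zpow_right i).eq, mul_inv_cancel_right]
    exact ⟨i, rfl⟩⟩
  have h5 : orderOf (y' : C ⧸ Subgroup.zpowers x') = 3 :=
    orderOf_eq_prime (by rw [← QuotientGroup.mk_pow, show y' ^ 3 = 1 from Subtype.ext hy, QuotientGroup.mk_one]) fun e => by
      classical
      rw [QuotientGroup.eq_one_iff, mem_zpowers_iff_mem_range_orderOf, h4, Finset.mem_image] at e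
      obtain ⟨i, hi, e⟩ := e
      have h6 : x ^ i = y := congrArg Subtype.val e
      rw [Finset.mem_range] at hi
      interval_cases i
      exacts [h1 (h6.symm.trans (pow_zero x)), h2 (h6.symm.trans (pow_one x)), h3 (h6.symm.trans (pow_two x))]
  refine Dvd.dvd.trans ?_ C.card_subgroup_dvd_card
  rw [Subgroup.card_eq_card_quotient_mul_card_subgroup (Subgroup.zpowers x'), Nat.card_zpowers, h4, pow_two]
  exact Nat.mul_dvd_mul_right (h5 ▸ orderOf_dvd_natCard _) 3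

section Gen

variable {p : ℕ} [Fact p.Prime] {k : Type} [Field k] [CharP k p] {Y : Type} [Group Y] {N : Type} [Fintype N]
  [DecidableEq N] {ρ : Y →* GL N k} {F : MulAut Y} {G : Subgroup Y} [IsAlgClosed k] {D : Datum p ρ F G} {w₀ : D.W}
  {Q : ℤ} {P : Matrix D.R D.R ℤ} {Adm : Matrix D.R D.R ℤ → Prop}

theorem tc_mat {v w w' : D.W} : Tc D v w w' ↔ D.Wm v * (D.Wm w * D.Mx) = D.Wm w' * D.Mx * D.Wm v := by
  rw [mul_assoc (D.Wm w'), D.Mx_Wm, ← mul_assoc, ← mul_assoc, ← D.Wm_mul, ← D.Wm_mul,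
    (isRegular_of_isLeftRegular_det (IsRegular.of_ne_zero D.det_Mx_ne_zero).left).right.eq_iff, D.Wm_injective.eq_iff, eq_comm]
  rfl

theorem card_of_int {K : ℤ} {c : ℕ} (h : (Nat.card ↥(GF F G) : ℤ) = (D.Wm w₀ * D.Mx - 1).det * K) (hK : ¬ 3 ^ (c + 1) ∣ K)
    (hc : 3 ^ c ∣ Nat.card (CW D w₀)) : CardC D w₀ :=
  card_of_mul (K := K.natAbs) (by rw [ordT, ← Int.natAbs_mul, ← h, Int.natAbs_natCast])
    (fun e => hK (by exact_mod_cast Int.natCast_dvd.2 e)) hc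

variable (D w₀ Q P) in
/-- `w₀ F` acts on the cocharacters as `Q • P` -/
structure Gt : Prop where
  eq : D.Wm w₀ * D.Mx = Q • P
  dvd : 3 ∣ Q - 1

namespace Gt

variable (h : Gt D w₀ Q P)
include h

theorem ne : Q ≠ 0 := by
  have := h.dvd
  omega

theorem mem_CW {v : D.W} : v ∈ CW D w₀ ↔ D.Wm v * P = P * D.Wm v := by
  refine tc_mat.trans ?_
  rw [h.eq, Matrix.mul_smul, Matrix.smul_mul, (smul_right_injective _ h.ne).eq_iff]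

theorem levC (H : ∀ a, D.Rt a → ∃ lam, P *ᵥ lam = lam ∧ (∀ b, D.Rt b → |D.wt b ⬝ᵥ lam| ≤ 2) ∧ D.wt a ⬝ᵥ lam ≠ 0) :
    LevC D w₀ := fun a ha => by
  obtain ⟨lam, h1, h2, h3⟩ := H a ha
  refine ⟨lam, fun i => ?_, fun b hb e => ?_, h3⟩
  · rw [h.eq, sub_mulVec, smul_mulVec, h1, one_mulVec, Pi.sub_apply, Pi.smul_apply, smul_eq_mul, ← sub_one_mul]
    exact h.dvd.mul_right _
  · have := abs_le.1 (h2 b hb)
    omega

theorem admC (H : ∀ A, Adm A → A * P = P * A) : AdmC D Adm w₀ := fun _ A _ hA =>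
  ⟨1, by rw [D.Wm_one, one_mul, h.eq, Matrix.mul_smul, Matrix.smul_mul, H A hA]⟩

theorem three_dvd {x : D.W} {A : Matrix D.R D.R ℤ} (hx : D.Wm x = A) (H : A * P = P * A ∧ A * (A * A) = 1 ∧ A ≠ 1) :
    3 ^ 1 ∣ Nat.card (CW D w₀) := by
  have : Fact (Nat.Prime 3) := ⟨Nat.prime_three⟩
  subst hx
  simp only [← D.Wm_mul, ← D.Wm_one, D.Wm_injective.eq_iff, D.Wm_injective.ne_iff, ← h.mem_CW] at H
  have h4 : orderOf (⟨x, H.1⟩ : CW D w₀) = 3 :=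
    orderOf_eq_prime (Subtype.ext ((pow_three x).trans H.2.1)) (Subtype.coe_ne_coe.1 H.2.2)
  exact (pow_one 3).symm ▸ h4 ▸ orderOf_dvd_natCard _

theorem nine_dvd {x y : D.W} {A B : Matrix D.R D.R ℤ} (hx : D.Wm x = A) (hy : D.Wm y = B)
    (H : A * P = P * A ∧ B * P = P * B ∧ A * (A * A) = 1 ∧ B * (B * B) = 1 ∧ B * A = A * B ∧ A ≠ 1 ∧ B ≠ 1 ∧ B ≠ A ∧
      B ≠ A * A) : 3 ^ 2 ∣ Nat.card (CW D w₀) := by
  subst hx hy
  simp only [← D.Wm_mul, ← D.Wm_one, D.Wm_injective.eq_iff, D.Wm_injective.ne_iff, ← h.mem_CW] at H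
  obtain ⟨h1, h2, h3, h4, h5, h6, h7, h8, h9⟩ := H
  exact nine_dvd_card (x := ⟨x, h1⟩) (y := ⟨y, h2⟩) (Subtype.ext ((pow_three x).trans h3))
    (Subtype.ext ((pow_three y).trans h4)) (Subtype.ext h5) (Subtype.coe_ne_coe.1 h6) (Subtype.coe_ne_coe.1 h7)
    (Subtype.coe_ne_coe.1 h8) (Subtype.coe_ne_coe.1 h9)

end Gt

/-- all hypotheses on the Sylow torus -/
structure Pk (D : Datum p ρ F G) (Adm : Matrix D.R D.R ℤ → Prop) (w₀ : D.W) (Q : ℤ) (P : Matrix D.R D.R ℤ) : Prop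
    extends Gt D w₀ Q P where
  levC : LevC D w₀
  cardC : CardC D w₀
  admC : AdmC D Adm w₀

theorem Pk.regC (h : Pk D Adm w₀ Q P) : RegC D w₀ := h.levC.regC

/-- **The membership test.** -/
theorem Pk.mc (h : Pk D Adm w₀ Q P) (f : Fr D) [Fintype ↥(GF F G)] (hp : p ≠ 3) : Mc f w₀ :=
  mc_of_lev2 f hp h.levC h.cardC

end Gen

variable {p : ℕ} [Fact p.Prime] {k : Type} [Field k] [CharP k p] [IsAlgClosed k] {Q : ℤ}

section X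

variable {C : ChevalleyDatum} {l : ℕ} {M : CoxeterMatrix (Fin l)} {hp : IsType C l M} {Mx P : Matrix (Fin l) (Fin l) ℤ}
  {Adm : Matrix (Fin l) (Fin l) ℤ → Prop} {S S' : Type} [Group S] [Group S']

theorem levC_of_list {X : XF hp p k Mx} {w₀ : X.D.W} (h : Gt X.D w₀ Q P) (L : List (Fin l → ℤ))
    (h1 : ∀ lam ∈ L, P *ᵥ lam = lam ∧ ∀ r < C.nroots, |RGDChev.vec C l r ⬝ᵥ lam| ≤ 2)
    (h2 : ∀ r < C.nroots, ∃ lam ∈ L, RGDChev.vec C l r ⬝ᵥ lam ≠ 0) : LevC X.D w₀ := h.levC fun a ha => by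
  obtain ⟨r, hr, rfl⟩ := (X.rt_iff a).1 ha
  obtain ⟨lam, h3, h4⟩ := h2 r hr
  refine ⟨lam, (h1 lam h3).1, fun b hb => ?_, h4⟩
  obtain ⟨r', hr', rfl⟩ := (X.rt_iff b).1 hb
  exact (h1 lam h3).2 r' hr'

theorem card_GF {X : XF hp p k Mx} (s : XS X Adm 1 S) : Nat.card ↥(GF X.F ⊤) = Nat.card S := by
  rw [s.ov.card_eq, Nat.dvd_one.1 (s.idx odd_one), mul_one]

theorem comm_admF {A : Matrix (Fin l) (Fin l) ℤ} (h : AdmF p A) : A * P = P * A := by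
  obtain ⟨j, rfl⟩ := h
  rw [Matrix.mul_smul, Matrix.smul_mul, mul_one, one_mul]

/-- `S = G ^ F`, with a Sylow torus on which the Frobenius acts as `Q • P` -/
def HasP (hp : IsType C l M) (p : ℕ) [Fact p.Prime] (Mx : Matrix (Fin l) (Fin l) ℤ)
    (Adm : Matrix (Fin l) (Fin l) ℤ → Prop) (S : Type) [Group S] (Q : ℤ) (P : Matrix (Fin l) (Fin l) ℤ) : Prop :=
  ∃ (k : Type) (_ : Field k) (_ : CharP k p) (_ : IsAlgClosed k) (X : XF hp p k Mx) (_ : XS X Adm 1 S) (w₀ : X.D.W),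
    Pk X.D Adm w₀ Q P

theorem HasP.congr (h : HasP hp p Mx Adm S Q P) (e : S' ≃* S) : HasP hp p Mx Adm S' Q P := by
  obtain ⟨k, _, _, _, X, s, h⟩ := h
  exact ⟨k, _, _, _, X, s.congr e, h⟩

end X

/-! ### `E₆` -/

theorem det_P6 (Q : ℤ) : (Q • P6 - 1).det = (Q - 1) ^ 4 * (Q + 1) ^ 2 := by
  rw [show Q • P6 - 1 = !![-1, 0, 0, 0, 0, Q; 0, Q - 1, 0, 0, 0, 0; 0, 0, -1, 0, Q, 0; 0, 0, 0, Q - 1, 0, 0;
    0, 0, Q, 0, -1, 0; Q, 0, 0, 0, 0, -1] by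
      rw [P6_eq]; ext i j; fin_cases i <;> fin_cases j <;> simp]
  simp [det_succ_row_zero, Fin.sum_univ_succ, Fin.succAbove]
  ring

theorem det_P4 (Q : ℤ) : (Q • P4 - 1).det = (Q - 1) * (Q ^ 3 - 1) := by
  rw [show Q • P4 - 1 = !![-1, 0, 0, Q; 0, Q - 1, 0, 0; Q, 0, -1, 0; 0, 0, Q, -1] by
      rw [P4_eq]; ext i j; fin_cases i <;> fin_cases j <;> simp]
  simp [det_succ_row_zero, Fin.sum_univ_succ, Fin.succAbove]
  ring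

theorem not_dvd_of {n : ℕ} (f : ∀ {R : Type} [CommRing R], R → R) (hf : ((f Q : ℤ) : ZMod n) = f (Q : ZMod n))
    (h : ∀ t : ZMod n, f (3 * t + 1) ≠ 0) (hQ : 3 ∣ Q - 1) : ¬ (n : ℤ) ∣ f Q := fun e => by
  obtain ⟨t, ht⟩ := hQ
  refine h t ?_
  rw [← ZMod.intCast_zmod_eq_zero_iff_dvd, hf, sub_eq_iff_eq_add.1 ht] at e
  exact_mod_cast e

/-- an element of order three -/
def a6 : Matrix (Fin 6) (Fin 6) ℤ := !![-1, 0, -1, 0, 0, 0; 0, 1, 0, 0, 0, 0; 1, 0, 0, 0, 0, 0; 0, 0, 1, 1, 1, 0;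
  0, 0, 0, 0, 0, 1; 0, 0, 0, 0, -1, -1]

/-- an element of order three -/
def b6 : Matrix (Fin 6) (Fin 6) ℤ := !![1, 0, 0, 0, 0, 0; -1, -2, -2, -3, -2, -1; 0, 0, 1, 0, 0, 0; 0, 1, 0, 1, 0, 0;
  0, 0, 0, 0, 1, 0; 0, 0, 0, 0, 0, 1]

/-- an element of order three -/
def a4 : Matrix (Fin 4) (Fin 4) ℤ := !![1, 1, 0, 0; -1, -2, -1, -1; 0, 1, 1, 0; 0, 1, 0, 1]

theorem ab6 : a6 * P6 = P6 * a6 ∧ b6 * P6 = P6 * b6 ∧ a6 * (a6 * a6) = 1 ∧ b6 * (b6 * b6) = 1 ∧ b6 * a6 = a6 * b6 ∧ a6 ≠ 1 ∧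
    b6 ≠ 1 ∧ b6 ≠ a6 ∧ b6 ≠ a6 * a6 := by decide +kernel

theorem ab4 : a4 * P4 = P4 * a4 ∧ a4 * (a4 * a4) = 1 ∧ a4 ≠ 1 := by decide +kernel

section E6

variable {Mx : Matrix (Fin 6) (Fin 6) ℤ} {X : XF hpE6 p k Mx} {w₀ : X.D.W} (h : Gt X.D w₀ Q P6)
include h

theorem Gt.levC6 : LevC X.D w₀ :=
  levC_of_list h [![0, 2, 0, -1, 0, 0], ![0, -1, -1, 2, -1, 0], ![-1, -1, 1, 0, 1, -1], ![1, -1, 0, 0, 0, 1]]
    (by decide +kernel) (by decide +kernel)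

theorem Gt.ordT6 : ordT X.D w₀ = (Q - 1).natAbs ^ 4 * (Q + 1).natAbs ^ 2 := by
  rw [ordT, h.eq]
  exact (congrArg _ (det_P6 Q)).trans (by rw [Int.natAbs_mul, Int.natAbs_pow, Int.natAbs_pow])

theorem Gt.nine6 : 3 ^ 2 ∣ Nat.card (CW X.D w₀) :=
  h.nine_dvd ((X.Wm_word [0, 5, 2, 4]).trans (prod_eq_of isRows_E6 _ (B := a6) (by decide +kernel)))
    ((X.Wm_word [1, 3, 2, 4, 3, 1, 0, 5, 2, 4, 3, 1, 2, 4, 3, 0, 5, 2, 4, 3]).trans (prod_eq_of isRows_E6 _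
      (B := b6) (by decide +kernel))) ab6

theorem Gt.cardC6 (hG : (Nat.card ↥(GF X.F ⊤) : ℤ) =
    Q ^ 36 * (Q ^ 2 - 1) * (Q ^ 5 + 1) * (Q ^ 6 - 1) * (Q ^ 8 - 1) * (Q ^ 9 + 1) * (Q ^ 12 - 1)) : CardC X.D w₀ := by
  refine card_of_int ?_ (not_dvd_of (n := 27) (fun x => x ^ 36 * (x ^ 5 + 1) * (x ^ 9 + 1) * (x ^ 4 + x ^ 2 + 1) *
    ((x + 1) * (x ^ 2 + 1) * (x ^ 4 + 1)) * ((x ^ 6 + 1) * (x ^ 3 + 1) * (x ^ 2 + x + 1))) (by push_cast; rfl)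
    (by decide +kernel) h.dvd) h.nine6
  rw [hG, h.eq]
  refine Eq.trans ?_ (congrArg (· * _) (det_P6 Q).symm)
  ring

end E6

section D4

variable {Mx : Matrix (Fin 4) (Fin 4) ℤ} {X : XF hpD4 p k Mx} {w₀ : X.D.W} (h : Gt X.D w₀ Q P4)
include h

theorem Gt.levC4 : LevC X.D w₀ :=
  levC_of_list h [![-1, 2, -1, -1], ![1, -1, 1, 1]] (by decide +kernel) (by decide +kernel)

theorem Gt.ordT4 : ordT X.D w₀ = (Q - 1).natAbs * (Q ^ 3 - 1).natAbs := by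
  rw [ordT, h.eq]
  exact (congrArg _ (det_P4 Q)).trans (Int.natAbs_mul _ _)

theorem Gt.three4 : 3 ^ 1 ∣ Nat.card (CW X.D w₀) :=
  h.three_dvd ((X.Wm_word [1, 0, 2, 3, 1, 0, 2, 3]).trans (prod_eq_of isRows_D4 _ (B := a4) (by decide +kernel))) ab4

theorem Gt.cardC4 (hG : (Nat.card ↥(GF X.F ⊤) : ℤ) = Q ^ 12 * (Q ^ 2 - 1) * (Q ^ 6 - 1) * (Q ^ 8 + Q ^ 4 + 1)) :
    CardC X.D w₀ := by
  refine card_of_int ?_ (not_dvd_of (n := 9) (fun x => x ^ 12 * (x + 1) * (x ^ 3 + 1) * (x ^ 8 + x ^ 4 + 1))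
    (by push_cast; rfl) (by decide +kernel) h.dvd) h.three4
  rw [hG, h.eq]
  refine Eq.trans ?_ (congrArg (· * _) (det_P4 Q).symm)
  ring

end D4

/-! ### the groups -/

section Grp

variable {K : Type} [Field K] [Fintype K] [CharP K p] {e : ℕ}

theorem cast_sub_one {q : ℕ} (hq : 0 < q) (n : ℕ) : ((q ^ n - 1 : ℕ) : ℤ) = (q : ℤ) ^ n - 1 := by
  rw [Nat.cast_sub (Nat.one_le_pow n q hq), Nat.cast_pow, Nat.cast_one]

theorem hasP_E6 (hK : Fintype.card K = p ^ e) (h : 3 ∣ p ^ e + 1) :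
    HasP hpE6 p ((p : ℤ) ^ e • 1) (AdmL p [1, P6]) ↥(chevE6.group K) (-(p : ℤ) ^ e) P6 := by
  have h0 := pow_pos (Fact.out : p.Prime).pos e
  have h1 : Nat.gcd 3 (p ^ e - 1) = 1 := (Nat.prime_three.coprime_iff_not_dvd).2 (by omega)
  have h2 := S1063.result hK
  obtain ⟨k, _, _, _, X, ⟨s⟩⟩ := has_E6 hK
  rw [h1] at s h2
  obtain ⟨w, hw⟩ := X.exists_neg_E6
  have g : Gt X.D w (-(p : ℤ) ^ e) P6 := ⟨by
    rw [hw]
    show -P6 * ((p : ℤ) ^ e • 1) = _ • P6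
    rw [Matrix.mul_smul, mul_one, smul_neg]
    exact (neg_smul _ P6).symm, by
      have : ((3 : ℕ) : ℤ) ∣ ((p ^ e + 1 : ℕ) : ℤ) := Int.natCast_dvd_natCast.2 h
      push_cast at this
      omega⟩
  refine ⟨k, _, _, _, X, s, w, g, g.levC6, g.cardC6 ?_, g.admC ?_⟩
  · rw [card_GF s, ← one_mul (Nat.card _), h2]
    simp only [Nat.cast_mul, cast_sub_one h0, Nat.cast_pow]
    ring
  · rintro _ ⟨j, B, hB, rfl⟩
    rcases List.mem_cons.1 hB with rfl | hB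
    · exact comm_admF ⟨j, rfl⟩
    · rw [List.mem_singleton.1 hB]
      exact (Matrix.smul_mul _ _ _).trans (Matrix.mul_smul _ _ _).symm

theorem hasP_2E6 (hK : Fintype.card K = (p ^ e) ^ 2) (h : 3 ∣ p ^ e - 1) :
    HasP hpE6 p ((p : ℤ) ^ e • P6) (AdmF p) ↥(twistedE6 K (p ^ e)) ((p : ℤ) ^ e) P6 := by
  have h0 := pow_pos (Fact.out : p.Prime).pos e
  have he : 0 < e := by
    have h := pos_of_card (hK.trans (pow_mul _ _ _).symm)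
    omega
  have h1 : Nat.gcd 3 (p ^ e + 1) = 1 := (Nat.prime_three.coprime_iff_not_dvd).2 (by omega)
  have h2 := S1066.result ((Fact.out : p.Prime).isPrimePow.pow he.ne') hK
  obtain ⟨k, _, _, _, X, ⟨s⟩⟩ := has_2E6 hK
  rw [h1] at s h2
  have g : Gt X.D 1 ((p : ℤ) ^ e) P6 := ⟨by rw [X.D.Wm_one, one_mul]; rfl, by
    have : ((3 : ℕ) : ℤ) ∣ ((p ^ e - 1 : ℕ) : ℤ) := Int.natCast_dvd_natCast.2 h
    rwa [cast_sub_one (Fact.out : p.Prime).pos] at this⟩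
  refine ⟨k, _, _, _, X, s, 1, g, g.levC6, g.cardC6 ?_, g.admC fun _ => comm_admF⟩
  rw [card_GF s, ← one_mul (Nat.card _), h2]
  simp only [Nat.cast_mul, cast_sub_one h0, Nat.cast_pow, Nat.cast_add, Nat.cast_one]

theorem hasP_3D4 (hK : Fintype.card K = (p ^ e) ^ 3) (h : p ≠ 3) : ∃ Q : ℤ, (Q = (p : ℤ) ^ e ∨ Q = -(p : ℤ) ^ e) ∧
    HasP hpD4 p ((p : ℤ) ^ e • P4) (AdmF p) ↥(twistedD4 K (p ^ e)) Q P4 := by
  have h0 := pow_pos (Fact.out : p.Prime).pos e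
  have he : 0 < e := by
    have h := pos_of_card (hK.trans (pow_mul _ _ _).symm)
    omega
  have h2 := S1067.result ((Fact.out : p.Prime).isPrimePow.pow he.ne') hK
  obtain ⟨k, _, _, _, X, ⟨s⟩⟩ := has_3D4 hK
  have key : ∃ Q w, (Q = (p : ℤ) ^ e ∨ Q = -(p : ℤ) ^ e) ∧ Gt X.D w Q P4 := by
    by_cases h3 : (3 : ℤ) ∣ (p : ℤ) ^ e - 1
    · exact ⟨_, 1, .inl rfl, by rw [X.D.Wm_one, one_mul]; rfl, h3⟩
    · obtain ⟨w, hw⟩ := X.exists_neg_D4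
      have h4 : ¬ (3 : ℤ) ∣ (p : ℤ) ^ e := fun h1 => h ((Nat.prime_dvd_prime_iff_eq Nat.prime_three Fact.out).1
        (Int.natCast_dvd_natCast.1 (Int.prime_three.dvd_of_dvd_pow h1))).symm
      exact ⟨_, w, .inr rfl, by rw [hw, neg_one_mul]; exact (neg_smul _ P4).symm, by omega⟩
  obtain ⟨Q, w, hQ, g⟩ := key
  refine ⟨Q, hQ, k, _, _, _, X, s, w, g, g.levC4, g.cardC4 ?_, g.admC fun _ => comm_admF⟩
  rw [card_GF s, h2]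
  simp only [Nat.cast_mul, cast_sub_one h0, Nat.cast_pow, Nat.cast_add, Nat.cast_one]
  rcases hQ with rfl | rfl <;> ring

variable {S : Type} [Group S]

theorem rowP_E6 (h : ChevX chevE6 0 S) : ∃ (p e : ℕ) (_ : Fact p.Prime), p ≠ 3 ∧ 0 < e ∧
    ((3 ∣ p ^ e - 1 ∧ Has hpE6 p ((p : ℤ) ^ e • 1) (AdmL p [1, P6]) 3 S) ∨
      (3 ∣ p ^ e + 1 ∧ HasP hpE6 p ((p : ℤ) ^ e • 1) (AdmL p [1, P6]) S (-(p : ℤ) ^ e) P6)) := by
  obtain ⟨F, _, _, h1, -, ⟨i⟩⟩ := h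
  obtain ⟨p, e, _, _, h3, he, hF⟩ := exists_char F h1
  refine ⟨p, e, ‹_›, h3, he, ?_⟩
  by_cases h : 3 ∣ p ^ e - 1
  · exact .inl ⟨h, Nat.gcd_eq_left h ▸ (has_E6 hF).congr i⟩
  · have h4 : 3 ∣ p ^ e + 1 := by omega
    exact .inr ⟨h4, (hasP_E6 hF h4).congr i⟩

theorem rowP_2E6 (h : TwE6X S) : ∃ (p e : ℕ) (_ : Fact p.Prime), p ≠ 3 ∧ 0 < e ∧
    ((3 ∣ p ^ e + 1 ∧ Has hpE6 p ((p : ℤ) ^ e • P6) (AdmF p) 3 S) ∨
      (3 ∣ p ^ e - 1 ∧ HasP hpE6 p ((p : ℤ) ^ e • P6) (AdmF p) S ((p : ℤ) ^ e) P6)) := by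
  obtain ⟨K, _, _, q, h1, hq, hK, ⟨i⟩⟩ := h
  obtain ⟨p, e, _, _, h3, he, rfl⟩ := exists_char' K h1 hq two_ne_zero hK
  refine ⟨p, e, ‹_›, h3, he, ?_⟩
  by_cases h : 3 ∣ p ^ e + 1
  · exact .inl ⟨h, Nat.gcd_eq_left h ▸ (has_2E6 hK).congr i⟩
  · have h5 : ¬ 3 ∣ p ^ e := fun h5 => h1 (hK ▸ h5.trans (dvd_pow_self _ two_ne_zero))
    have h4 : 3 ∣ p ^ e - 1 := by omega
    exact .inr ⟨h4, (hasP_2E6 hK h4).congr i⟩

theorem rowP_3D4 (h : TwD4X S) : ∃ (p e : ℕ) (_ : Fact p.Prime) (Q : ℤ), p ≠ 3 ∧ 0 < e ∧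
    (Q = (p : ℤ) ^ e ∨ Q = -(p : ℤ) ^ e) ∧ HasP hpD4 p ((p : ℤ) ^ e • P4) (AdmF p) S Q P4 := by
  obtain ⟨K, _, _, q, h1, hq, hK, ⟨i⟩⟩ := h
  obtain ⟨p, e, _, _, h3, he, rfl⟩ := exists_char' K h1 hq three_ne_zero hK
  obtain ⟨Q, h4, h5⟩ := hasP_3D4 hK h3
  exact ⟨p, e, ‹_›, Q, h3, he, h4, h5.congr i⟩

end Grp

end Cfsg.Agent.KZ.McX
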