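import Cfsg.Agent.KZ.DatX.Weyl

/-!
# KZ, the elements of the Weyl group of type `F₄` (helper22)

`wordsF4` : a list of `1152` words, `exists_wordF4` : every element is the product of one of them; `mW L` : the matrix of a word,
fast in the kernel; `J4` : a twisted element with the square `-2`; `good_word`.
-/

set_option autoImplicit false
set_option linter.unusedSectionVars false

namespace Cfsg.Agent.KZ.McX

open Cfsg Cfsg.Lie Cfsg.Agent.DL Cfsg.Agent.KZ.DatX Matrix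
open Cfsg.Agent.ChevalleyStructure Cfsg.Agent.ChevalleyStructure.CoxeterGeomTypes Cfsg.Agent.Nodes Cfsg.Agent.Nodes.RGDChev

/-- all concatenations -/
def cat {α : Type} (A B : List (List α)) : List (List α) := A.flatMap fun a => B.map (a ++ ·)

/-- the elements of the Weyl group of type `F₄` -/
def wordsF4 : List (List (Fin 4)) :=
  cat [[], [3], [2, 3], [1, 2, 3], [0, 1, 2, 3], [2, 1, 2, 3], [0, 2, 1, 2, 3], [3, 2, 1, 2, 3], [0, 3, 2, 1, 2, 3],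
    [1, 0, 2, 1, 2, 3], [1, 0, 3, 2, 1, 2, 3], [2, 1, 0, 2, 1, 2, 3], [2, 1, 0, 3, 2, 1, 2, 3], [3, 2, 1, 0, 2, 1, 2, 3],
    [1, 2, 1, 0, 3, 2, 1, 2, 3], [2, 3, 2, 1, 0, 2, 1, 2, 3], [0, 1, 2, 1, 0, 3, 2, 1, 2, 3], [1, 2, 3, 2, 1, 0, 2, 1, 2, 3],
    [0, 1, 2, 3, 2, 1, 0, 2, 1, 2, 3], [2, 1, 2, 3, 2, 1, 0, 2, 1, 2, 3], [0, 2, 1, 2, 3, 2, 1, 0, 2, 1, 2, 3],
    [1, 0, 2, 1, 2, 3, 2, 1, 0, 2, 1, 2, 3], [2, 1, 0, 2, 1, 2, 3, 2, 1, 0, 2, 1, 2, 3],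
    [3, 2, 1, 0, 2, 1, 2, 3, 2, 1, 0, 2, 1, 2, 3]]
  (cat [[], [2], [1, 2], [0, 1, 2], [2, 1, 2], [0, 2, 1, 2], [1, 0, 2, 1, 2], [2, 1, 0, 2, 1, 2]]
    (cat [[], [1], [0, 1]] [[], [0]]))

/-- a code for short vectors -/
def keyL (v : List ℤ) : ℕ := v.foldr (fun a n => (a + 11).toNat + 23 * n) 0

/-- a test for repetitions -/
def ndB : List ℕ → ℕ → Bool
  | [], _ => true
  | a :: l, m => !m.testBit a && ndB l (m ||| 2 ^ a)

theorem ndB_realised : True := by have := @ndB.eq_def; trivial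

theorem nodup_of_ndB : ∀ (l : List ℕ) (m : ℕ), ndB l m = true → l.Nodup ∧ ∀ a ∈ l, m.testBit a = false
  | [], _, _ => ⟨List.nodup_nil, by simp⟩
  | a :: l, m, h => by
    rw [ndB, Bool.and_eq_true, Bool.not_eq_true'] at h
    obtain ⟨h1, h2⟩ := nodup_of_ndB l _ h.2
    simp only [Nat.testBit_or, Bool.or_eq_false_iff] at h2
    exact ⟨List.nodup_cons.2 ⟨fun e => by simpa using (h2 a e).2, h1⟩, List.forall_mem_cons.2 ⟨h.1, fun b hb => (h2 b hb).1⟩⟩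

theorem nodup_F4 : (wordsF4.map fun L => keyL (app rowsF4 L [1, 1, 1, 1])).Nodup :=
  (nodup_of_ndB _ 0 (by decide +kernel)).1

theorem length_F4 : wordsF4.length = 1152 := by decide +kernel

variable {p : ℕ} [Fact p.Prime] {k : Type} [Field k] [CharP k p] [IsAlgClosed k] {Mx : Matrix (Fin 4) (Fin 4) ℤ}

theorem exists_wordF4 (X : XF hpF4 p k Mx) (w : CoxeterMatrix.F₄.Group) :
    ∃ L ∈ wordsF4, CoxeterMatrix.F₄.toCoxeterSystem.wordProd L = w := by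
  classical
  have : Finite CoxeterMatrix.F₄.Group := Nat.finite_of_card_ne_zero (by rw [card_W_F4]; decide)
  have := Fintype.ofFinite CoxeterMatrix.F₄.Group
  obtain ⟨φ, hφ⟩ : ∃ φ : CoxeterMatrix.F₄.Group → Matrix (Fin 4) (Fin 4) ℤ,
      ∀ L, φ (CoxeterMatrix.F₄.toCoxeterSystem.wordProd L) = (L.map (sM chevF4 4)).prod := ⟨X.D.Wm, X.Wm_word⟩
  have h1 : (wordsF4.map CoxeterMatrix.F₄.toCoxeterSystem.wordProd).Nodup :=
    List.Nodup.of_map (fun w => keyL (List.ofFn (φ w *ᵥ ![1, 1, 1, 1]))) (by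
      rw [List.map_map]
      refine (List.map_congr_left fun L _ => ?_ : _ = _) ▸ nodup_F4
      rw [Function.comp_apply, hφ]
      exact congrArg _ (app_ofFn isRows_F4 L ![1, 1, 1, 1]))
  have h2 := Finset.eq_univ_of_card _ ((List.toFinset_card_of_nodup h1).trans (by
    rw [List.length_map, length_F4, ← card_W_F4, Nat.card_eq_fintype_card]))
  exact List.mem_map.1 (List.mem_toFinset.1 (h2 ▸ Finset.mem_univ w))

/-- the matrix with the given columns -/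
def ofCols : List ℤ → List ℤ → List ℤ → List ℤ → Matrix (Fin 4) (Fin 4) ℤ
  | [a, b, c, d], [e, f, g, h], [i, j, k, l], [m, n, o, p] => !![a, e, i, m; b, f, j, n; c, g, k, o; d, h, l, p]
  | _, _, _, _ => 0

/-- the product of the matrix of a word and a matrix -/
def mW (L : List (Fin 4)) (A : Matrix (Fin 4) (Fin 4) ℤ) : Matrix (Fin 4) (Fin 4) ℤ :=
  ofCols (app rowsF4 L (List.ofFn (A · 0))) (app rowsF4 L (List.ofFn (A · 1))) (app rowsF4 L (List.ofFn (A · 2)))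
    (app rowsF4 L (List.ofFn (A · 3)))

theorem mW_eq (L : List (Fin 4)) (A : Matrix (Fin 4) (Fin 4) ℤ) : mW L A = (L.map (sM chevF4 4)).prod * A := by
  simp only [mW, app_ofFn isRows_F4]
  ext i j
  fin_cases i <;> fin_cases j <;> rfl

/-- the special isogeny -/
def G4 : Matrix (Fin 4) (Fin 4) ℤ := !![0, 0, 0, 1; 0, 0, 1, 0; 0, 2, 0, 0; 2, 0, 0, 0]

/-- a twisted element with the square `-2` -/
def J4 : Matrix (Fin 4) (Fin 4) ℤ := !![0, 0, -1, 0; -2, -2, -1, -1; 2, 0, 0, 0; 2, 6, 4, 2]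

/-- an element of order three -/
def R4 : Matrix (Fin 4) (Fin 4) ℤ := !![-1, -1, 0, 0; 1, 0, 0, 0; 0, 2, 1, 0; 0, 0, 0, 1]

theorem J4_sq : J4 * J4 = (-2 : ℤ) • 1 := by decide +kernel

theorem J4_eq : ([0, 1, 0, 2, 1, 0, 2, 1, 3, 2, 1, 0].map (sM chevF4 4)).prod * GamF = J4 := by
  rw [← mW_eq, GamF_eq]
  decide +kernel

theorem R4_eq : ([0, 1].map (sM chevF4 4)).prod = R4 := prod_eq_of isRows_F4 _ (by decide +kernel)

/-- a principal minor -/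
def mn2 (x : Matrix (Fin 4) (Fin 4) ℤ) (i j : Fin 4) : ℤ := x i i * x j j - x i j * x j i

/-- a minor -/
def mn3 (x : Matrix (Fin 4) (Fin 4) ℤ) (i j l a b c : Fin 4) : ℤ :=
  x i a * (x j b * x l c - x j c * x l b) - x i b * (x j a * x l c - x j c * x l a) + x i c * (x j a * x l b - x j b * x l a)

/-- the coefficients of the characteristic polynomial -/
def cp4 (x : Matrix (Fin 4) (Fin 4) ℤ) : ℤ × ℤ × ℤ × ℤ :=
  (x 0 0 + x 1 1 + x 2 2 + x 3 3, mn2 x 0 1 + mn2 x 0 2 + mn2 x 0 3 + mn2 x 1 2 + mn2 x 1 3 + mn2 x 2 3,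
    mn3 x 0 1 2 0 1 2 + mn3 x 0 1 3 0 1 3 + mn3 x 0 2 3 0 2 3 + mn3 x 1 2 3 1 2 3,
    x 0 0 * mn3 x 1 2 3 1 2 3 - x 0 1 * mn3 x 1 2 3 0 2 3 + x 0 2 * mn3 x 1 2 3 0 1 3 - x 0 3 * mn3 x 1 2 3 0 1 2)

theorem det_cp4 (x : Matrix (Fin 4) (Fin 4) ℤ) (t : ℤ) : (t • x - 1).det =
    1 - (cp4 x).1 * t + (cp4 x).2.1 * t ^ 2 - (cp4 x).2.2.1 * t ^ 3 + (cp4 x).2.2.2 * t ^ 4 := by
  simp [det_succ_row_zero, Fin.sum_univ_succ, Fin.succAbove, cp4, mn2, mn3, one_apply, -zsmul_eq_mul]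
  ring

/-- the characteristic polynomials -/
def cpL : List (ℤ × ℤ × ℤ × ℤ) := [(0, 0, 0, -4), (0, -2, 0, 4), (2, 0, -4, -4), (-2, 0, 4, -4), (2, 2, 4, 4), (-2, 2, -4, 4),
  (0, -4, 0, 4), (0, 0, 0, 4), (4, 8, 8, 4), (-4, 8, -8, 4)]

/-- conjugating elements -/
def cjL : List (List (Fin 4)) := [[], [0], [1], [3], [0, 1], [0, 3], [1, 0], [1, 3], [2, 1], [2, 3], [0, 1, 0], [0, 1, 3],
  [0, 2, 1], [0, 2, 3], [1, 0, 3], [1, 2, 1], [2, 1, 0], [2, 1, 3], [0, 1, 0, 3], [0, 1, 2, 1], [0, 2, 1, 0], [0, 2, 1, 3],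
  [1, 2, 1, 0], [0, 1, 2, 1, 0]]

theorem good_word : ∀ L ∈ wordsF4, R4 * mW L G4 ≠ mW L G4 * R4 ∧
    (cp4 (mW L G4) ∈ cpL ∨ ∃ V ∈ cjL, mW V J4 = mW L G4 * mW V 1) := by decide +kernel

end Cfsg.Agent.KZ.McX
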